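import Cfsg.Agent.Lib.Comp.Out
import Cfsg.Agent.Lib.Leech.PermHS

set_option maxRecDepth 100000

namespace Cfsg.Lib.Comp.HS

universe u

open Cfsg.Lib.Leech.PHS

noncomputable def on_1 : Net :=
 (Net.cons 64 (nat_lit 0x75e06bdb326853c0)
 (Net.cons 32 (nat_lit 0x6d217e3000000000b7b43be0)
 (Net.cons 16 (nat_lit 0x3f6200003b420000ad9c00001808)
 (Net.cons 8 (nat_lit 0xc60084008800040036000c009800d4)
 (Net.cons 4 (nat_lit 0xe04000c04080002080c0a080a0c0c04)
 (Net.cons 2 (nat_lit 0x20000220000000000000202020022020)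
 (Net.cons 1 (nat_lit 0x15014140044001100500111510011041)
 (Net.cons 2 (nat_lit 0x2013211232010100330033300013021)
 (Net.cons 4 (nat_lit 0xc00000c0e06040b000e0a0c0a090c08)
 (Net.cons 8 (nat_lit 0x84008400620047001b000100da00d8)
 (Net.cons 16 (nat_lit 0x668200005bd00000aa300000d810)
 (Net.cons 32 (nat_lit 0x68a11dae00000000b5a42fe8)
 (Net.cons 64 (nat_lit 0x75e06bd7038436e1)
 Net.nil)))))))))))))

noncomputable def on_2 : Net :=
 (Net.cons 64 (nat_lit 0xa4b7045e9167b6a2)
 (Net.cons 32 (nat_lit 0x78edf338000000004cc6fe08)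
 (Net.cons 16 (nat_lit 0xb8d800002a8e0000626200003080)
 (Net.cons 8 (nat_lit 0x5000c6001800c000d800c0000a001a)
 (Net.cons 4 (nat_lit 0xe0806080000080600020600060e0a02)
 (Net.cons 2 (nat_lit 0x220202200220000020220020020000)
 (Net.cons 1 (nat_lit 0x4140414140444100440410110110105)
 (Net.cons 2 (nat_lit 0x12122132212322102330230223030201)
 (Net.cons 4 (nat_lit 0xe0b0c0409080a0708000b000e040803)
 (Net.cons 8 (nat_lit 0x7400d8009800c200fe008100430010)
 (Net.cons 16 (nat_lit 0x58fb00002e190000636c0000b080)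
 (Net.cons 32 (nat_lit 0x5cecf376000000001fc6fe86)
 (Net.cons 64 (nat_lit 0xa4b7045d6789ac85)
 Net.nil)))))))))))))

noncomputable def on_3 : Net :=
 (Net.cons 64 (nat_lit 0xf0586a4ba3bfae10)
 (Net.cons 32 (nat_lit 0x35680a58000000004ed0f7c6)
 (Net.cons 16 (nat_lit 0x88400000e4120000303000000602)
 (Net.cons 8 (nat_lit 0x44004000f2000000b4006400380022)
 (Net.cons 4 (nat_lit 0x60808000802080c0400000402000400)
 (Net.cons 2 (nat_lit 0x2202000002020002222000202000000)
 (Net.cons 1 (nat_lit 0x4104004404010141444400101145105)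
 (Net.cons 2 (nat_lit 0x1002211000322301332001201033000)
 (Net.cons 4 (nat_lit 0x60c0800000f0903010002080a0b0e01)
 (Net.cons 8 (nat_lit 0x6c00400076004b00b0006000950020)
 (Net.cons 16 (nat_lit 0xa8000000061f0000370700009303)
 (Net.cons 32 (nat_lit 0x35280a51000000004ed0f6c6)
 (Net.cons 64 (nat_lit 0xf0586a4080eddbb0)
 Net.nil)))))))))))))

noncomputable def on_4 : Net :=
 (Net.cons 64 (nat_lit 0x66ee452ebecaa5b2)
 (Net.cons 32 (nat_lit 0x8b8bef8200000000fbb6ad46)
 (Net.cons 16 (nat_lit 0xa0c6000056680000459000001a18)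
 (Net.cons 8 (nat_lit 0xa4004000c8001000a0008c00d60020)
 (Net.cons 4 (nat_lit 0xa0602040004000c020c060000040806)
 (Net.cons 2 (nat_lit 0x2222022000200000000020002020020)
 (Net.cons 1 (nat_lit 0x1414541500401410510440101415045)
 (Net.cons 2 (nat_lit 0x202002100200310012030212102031)
 (Net.cons 4 (nat_lit 0x40c00040800010d0b0e0f01010d0008)
 (Net.cons 8 (nat_lit 0x2000cd00cc004300b2008f00c700d8)
 (Net.cons 16 (nat_lit 0x42e7000042340000771000000a10)
 (Net.cons 32 (nat_lit 0xababaf86000000006bb6a7cc)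
 (Net.cons 64 (nat_lit 0x66ee452e06ffb5a5)
 Net.nil)))))))))))))

noncomputable def on_5 : Net :=
 (Net.cons 64 (nat_lit 0x838c000c043080)
 (Net.cons 32 (nat_lit 0xf4810040000000007db615f0)
 (Net.cons 16 (nat_lit 0xcc40000030fa000042840000ef26)
 (Net.cons 8 (nat_lit 0x7400c0000c000e00d8008400480098)
 (Net.cons 4 (nat_lit 0x806000c0c00000800040c0e0c0e0404)
 (Net.cons 2 (nat_lit 0x200000000200202202000020002000)
 (Net.cons 1 (nat_lit 0x40410044510104454414155014104014)
 (Net.cons 2 (nat_lit 0x200003302000211122011022213030)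
 (Net.cons 4 (nat_lit 0x700000c0a000803000d0d0e0c0208)
 (Net.cons 8 (nat_lit 0x7400c0001e004400480091006b0008)
 (Net.cons 16 (nat_lit 0xc8400000327c0000478400007756)
 (Net.cons 32 (nat_lit 0xf4810040000000001fde15e2)
 (Net.cons 64 (nat_lit 0x838c000c081880)
 Net.nil)))))))))))))

noncomputable def on_7 : Net :=
 (Net.cons 64 (nat_lit 0xa430a644c429058a)
 (Net.cons 32 (nat_lit 0xafc0170e00000000a656948e)
 (Net.cons 16 (nat_lit 0xa59800001008000004f20000380c)
 (Net.cons 8 (nat_lit 0xe80004002c009000a4009c00580058)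
 (Net.cons 4 (nat_lit 0xe08020c08020c040c040006000c0004)
 (Net.cons 2 (nat_lit 0x2200000200022020000202020002)
 (Net.cons 1 (nat_lit 0x41001400400400141441404101040101)
 (Net.cons 2 (nat_lit 0x1200203200330002010003200321001)
 (Net.cons 4 (nat_lit 0x800000d000004070f060d020203000e)
 (Net.cons 8 (nat_lit 0xe80016002800f4000f000000720053)
 (Net.cons 16 (nat_lit 0x24980000142000005cf20000388a)
 (Net.cons 32 (nat_lit 0xfd0150700000000ec11d5a6)
 (Net.cons 64 (nat_lit 0xa430a64c92df2820)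
 Net.nil)))))))))))))

noncomputable def on_11 : Net :=
 (Net.cons 64 (nat_lit 0x482108a16c00670a)
 (Net.cons 32 (nat_lit 0x62bce2ce0000000045ca8894)
 (Net.cons 16 (nat_lit 0xe8800000052c0000abce000031e0)
 (Net.cons 8 (nat_lit 0x3000aa0064002600e4002000080042)
 (Net.cons 4 (nat_lit 0x400080208020004040404060a040002)
 (Net.cons 2 (nat_lit 0x2020020222200002000200202002200)
 (Net.cons 1 (nat_lit 0x14014045414101001540114101001440)
 (Net.cons 2 (nat_lit 0x20032222022300102020212300031312)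
 (Net.cons 4 (nat_lit 0x600000005060205090000010100060a)
 (Net.cons 8 (nat_lit 0x1000c2006c0037007200a4000400e2)
 (Net.cons 16 (nat_lit 0xc80c0000002c00004e80000082fc)
 (Net.cons 32 (nat_lit 0x229dea4100000000615419c0)
 (Net.cons 64 (nat_lit 0x482108a8208e19e4)
 Net.nil)))))))))))))

noncomputable def on_13 : Net :=
 (Net.cons 64 (nat_lit 0x80c9180030407400)
 (Net.cons 32 (nat_lit 0xc8e908000000000066f22022)
 (Net.cons 16 (nat_lit 0x4000000068e000009a0400009800)
 (Net.cons 8 (nat_lit 0x800040001a0090004000a200300080)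
 (Net.cons 4 (nat_lit 0x20808040204020800000a02060800)
 (Net.cons 2 (nat_lit 0x2000000000022002000000000000)
 (Net.cons 1 (nat_lit 0x11040050150114054000150010404)
 (Net.cons 2 (nat_lit 0x2001201030022202002032101000)
 (Net.cons 4 (nat_lit 0x8020808040a040608000b0e02060a02)
 (Net.cons 8 (nat_lit 0x800040001e0090004000a2003000a2)
 (Net.cons 16 (nat_lit 0x4000000068e000009e0400009900)
 (Net.cons 32 (nat_lit 0xc8e908000000000066f22022)
 (Net.cons 64 (nat_lit 0x80c9180030407400)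
 Net.nil)))))))))))))

noncomputable def on_14 : Net :=
 (Net.cons 64 (nat_lit 0xc000000000000000)
 (Net.cons 32 (nat_lit 0xbeb00000000000009181df58)
 (Net.cons 16 (nat_lit 0xfeb00000c00000003dcc0000fb30)
 (Net.cons 8 (nat_lit 0x3c00c000b20050009800a0004e)
 (Net.cons 4 (nat_lit 0xc0004020208040a000000020004)
 (Net.cons 2 (nat_lit 0x20000220020000020020002020)
 (Net.cons 1 (nat_lit 0x4010004114111001115110414440)
 (Net.cons 2 (nat_lit 0x2001012301221202131121202122)
 (Net.cons 4 (nat_lit 0x20a04020e0409080b0d0507050c)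
 (Net.cons 8 (nat_lit 0x2c00c0004c0045003a001c0062)
 (Net.cons 16 (nat_lit 0xfeb00000c000000008050000ad68)
 (Net.cons 32 (nat_lit 0xfeb0000400000000b0dc8c14)
 (Net.cons 64 (nat_lit 0xc000000000000000)
 Net.nil)))))))))))))

noncomputable def on_16 : Net :=
 (Net.cons 64 (nat_lit 0xc000000000000000)
 (Net.cons 32 (nat_lit 0xfff0000000000000c016e75e)
 (Net.cons 16 (nat_lit 0x6ba00000c00000002d2800001b02)
 (Net.cons 8 (nat_lit 0x8000ac0040008600d8006c00080064)
 (Net.cons 4 (nat_lit 0x4000800000e040c0800000e060c0204)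
 (Net.cons 2 (nat_lit 0x2000002000200002220002200022)
 (Net.cons 1 (nat_lit 0x404400004000144041410511454514)
 (Net.cons 2 (nat_lit 0x10102102000132001321301012131202)
 (Net.cons 4 (nat_lit 0x4000c02000a030e0406040a070d0900)
 (Net.cons 8 (nat_lit 0x9000a60040002000fe003d002700b6)
 (Net.cons 16 (nat_lit 0x6ba00000c000000065d500002a92)
 (Net.cons 32 (nat_lit 0xfff0000000000000d24b7556)
 (Net.cons 64 (nat_lit 0xc000000000000000)
 Net.nil)))))))))))))

noncomputable def on_18 : Net :=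
 (Net.cons 64 (nat_lit 0xc000000000000000)
 (Net.cons 32 (nat_lit 0xff000000000000009fc79fb8)
 (Net.cons 16 (nat_lit 0xff000000c000000027f20000bffc)
 (Net.cons 8 (nat_lit 0xf8000000e800600080006c0080)
 (Net.cons 4 (nat_lit 0x200000c040408080208040804)
 (Net.cons 2 (nat_lit 0x20000020200000220022022020)
 (Net.cons 1 (nat_lit 0x441404545414014444141514144)
 (Net.cons 2 (nat_lit 0x20000121131323201032032220)
 (Net.cons 4 (nat_lit 0xf00000c0e0b09040508010404)
 (Net.cons 8 (nat_lit 0xf3000000e80067001b00df00d4)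
 (Net.cons 16 (nat_lit 0xff000000c00000009d060000fffc)
 (Net.cons 32 (nat_lit 0xff000000000000008bfbcef8)
 (Net.cons 64 (nat_lit 0xc000000000000000)
 Net.nil)))))))))))))

noncomputable def on_20 : Net :=
 (Net.cons 64 (nat_lit 0xc000000000000000)
 (Net.cons 32 (nat_lit 0xff00000000000000fffdeff8)
 (Net.cons 16 (nat_lit 0x5d000000c0000000f8d400004000)
 (Net.cons 8 (nat_lit 0x2000000cc00b400b8005a0010)
 (Net.cons 4 (nat_lit 0x8000e0000000c0c020800040a04000c)
 (Net.cons 2 (nat_lit 0x202002000002220000200)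
 (Net.cons 1 (nat_lit 0x5004001441044451401440511414)
 (Net.cons 2 (nat_lit 0x2002001001013011031113001012320)
 (Net.cons 4 (nat_lit 0xa000b000000030c0b060e080b080804)
 (Net.cons 8 (nat_lit 0xf000000f000f6007800300088)
 (Net.cons 16 (nat_lit 0x5d000000c0000000f1a200004000)
 (Net.cons 32 (nat_lit 0xff00000000000000ffff3ff8)
 (Net.cons 64 (nat_lit 0xc000000000000000)
 Net.nil)))))))))))))

noncomputable def on_22 : Net :=
 (Net.cons 64 (nat_lit 0x8000000000000000)
 (Net.cons 32 (nat_lit 0xc00000000000000000000000)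
 (Net.cons 16 (nat_lit 0xc000000080000000800000004000)
 (Net.cons 8 (nat_lit 0xc0000000f00002009200d80000)
 (Net.cons 4 (nat_lit 0x40800040c000800040e020400)
 (Net.cons 2 (nat_lit 0x200202000002000002000)
 (Net.cons 1 (nat_lit 0x41114415111445554051051510)
 (Net.cons 2 (nat_lit 0x3212031120330223303331110)
 (Net.cons 4 (nat_lit 0x80800090c090408020d0d0900)
 (Net.cons 8 (nat_lit 0xc0000000e8000100c900b40000)
 (Net.cons 16 (nat_lit 0xc000000080000000800000008000)
 (Net.cons 32 (nat_lit 0xc00000000000000000000000)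
 (Net.cons 64 (nat_lit 0x8000000000000000)
 Net.nil)))))))))))))

noncomputable def on_24 : Net :=
 (Net.cons 64 (nat_lit 0x1d8fd592173dcc6e)
 (Net.cons 32 (nat_lit 0x1b28d7a60000000038008850)
 (Net.cons 16 (nat_lit 0x8c0a0000a9000000c02c0000d444)
 (Net.cons 8 (nat_lit 0xb0005000d8000800c800a0005800c2)
 (Net.cons 4 (nat_lit 0xa00080e060a000a0c04080a060a0008)
 (Net.cons 2 (nat_lit 0x2000000000202200000022200200)
 (Net.cons 1 (nat_lit 0x5051105055404401400400141444401)
 (Net.cons 2 (nat_lit 0x1002002023031102230000232210202)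
 (Net.cons 4 (nat_lit 0x8090806070205070c0c080b03090400)
 (Net.cons 8 (nat_lit 0xb00058004c00cd00c000e0001800aa)
 (Net.cons 16 (nat_lit 0x8a0d00000cc60000683c00009248)
 (Net.cons 32 (nat_lit 0x162e17a200000000fa60a838)
 (Net.cons 64 (nat_lit 0x1d8fd596d857410f)
 Net.nil)))))))))))))

noncomputable def on : List Net := [Net.nil,
 on_1,
 on_2,
 on_3,
 on_4,
 on_5,
 Net.rev on_5,
 on_7,
 Net.rev on_1,
 Net.rev on_2,
 Net.rev on_3,
 on_11,
 Net.rev on_11,
 on_13,
 on_14,
 Net.rev on_14,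
 on_16,
 Net.rev on_16,
 on_18,
 Net.rev on_18,
 on_20,
 Net.rev on_20,
 on_22,
 Net.rev on_22,
 on_24]

theorem on_ok : NetsOK 128 on := netsOK_of (by decide +kernel)

noncomputable def opi : Net :=
 (Net.cons 64 (nat_lit 0x4489167fc48ea410)
 (Net.cons 32 (nat_lit 0xf50a77a800000000dda3e248)
 (Net.cons 16 (nat_lit 0x64060000cc600000609a0000a464)
 (Net.cons 8 (nat_lit 0xb600660044004200e800bc000a00be)
 (Net.cons 4 (nat_lit 0xe020208080a04080a0208040c080a06)
 (Net.cons 2 (nat_lit 0x22200000002200200002020200020202)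
 (Net.cons 1 (nat_lit 0x41110145401404415044010400145404)
 (Net.cons 2 (nat_lit 0x23210023022012003121012112222203)
 (Net.cons 4 (nat_lit 0xe03010f000b0009000e09060d080206)
 (Net.cons 8 (nat_lit 0xb200570044004200c200bd00100057)
 (Net.cons 16 (nat_lit 0x51860000c01900002a5f00003472)
 (Net.cons 32 (nat_lit 0xf50261d00000000046b7eb40)
 (Net.cons 64 (nat_lit 0x44891671cbf7a4f4)
 Net.nil)))))))))))))

theorem opi_ok : opi.ok 128 := ok_of_netOK (by decide +kernel)

def oL : List ℕ := [1,2,3,4,5,6,8,9,10,11,12,13,14,15,16,17,18,19,20,21,22,23,24]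

noncomputable def oC : List Lev := [([11,12,13,14,15,16,17,18,19,20,21,22,23],[1,2,3,11,16,18,1,2,11],0,0,100),
 ([14,15,16,17,18,19,20,21,22,23],[11,13,11,14,16,18,13,14,11],1,1,77),
 ([18,19,20,21,22,23],[14,16,14,18,16,22,20,18],2,2,60),
 ([22,23],[18,20,18,22,20,18,18],3,3,32),
 ([],[22,22],4,4,3)]

noncomputable def oD : List (ℕ × List ℕ) := [(8,[1,1,1,1,1,1,1,1,1,1]),
 (9,[2,2,2,2]),
 (10,[3,3,3]),
 (11,[3,8,3,1,2,3,2,8,3,8,3]),
 (12,[10,1,10,1,9,10,9,8,10,1,10]),
 (13,[10,10,9]),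
 (14,[11,11,13,12,12,12,12,12]),
 (15,[11,11,11,11,11,13,12,12]),
 (16,[11,13,11,13,11,11,11,11]),
 (17,[12,12,12,12,13,12,13,12]),
 (18,[17,14,17,15,15,15,16]),
 (19,[17,14,14,14,16,15,16]),
 (20,[14,14,17,17,15,15,17,15]),
 (21,[14,16,14,14,16,16,15,15]),
 (22,[19,20,18,18,18,21]),
 (23,[20,19,19,19,21,18]),
 (4,[21,18,18,17,1]),
 (5,[23,19,21,19,14,19,13,23]),
 (6,[19,21,19,14,19,13]),
 (24,[22,18,18,22,14,22,13,14,10,19])]

theorem o_le : cl (gp on) oL ≤ cl (gp on) [1,2,3] := by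
  rw [← cl_eq_of_slpB (k := 7) (D := oD) (L := [1,2,3]) on_ok (by norm_num) (by decide +kernel)]
  exact cl_mono (sub_of_subB (by decide +kernel))

theorem o_m1 : gp on 1 ∈ (cl (gp nets) L).map (MulAut.conj opi.perm).toMonoidHom :=
  mem_conj_of_eqB (k := 7) (w := [74,77,70,70,64,70,64,1,2]) nets_ok (by norm_num) opi_ok (on_ok 1) (fun _ => fun h => cl_eq_of_slpB nets_ok (by norm_num) slp_ok ▸ mem_cl h) (by decide +kernel)

theorem o_m2 : gp on 2 ∈ (cl (gp nets) L).map (MulAut.conj opi.perm).toMonoidHom :=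
  mem_conj_of_eqB (k := 7) (w := [76,74,73,70,69,73,64,68,67,1,3,67]) nets_ok (by norm_num) opi_ok (on_ok 2) (fun _ => fun h => cl_eq_of_slpB nets_ok (by norm_num) slp_ok ▸ mem_cl h) (by decide +kernel)

theorem o_m3 : gp on 3 ∈ (cl (gp nets) L).map (MulAut.conj opi.perm).toMonoidHom :=
  mem_conj_of_eqB (k := 7) (w := [77,74,77,69,73,65,1,65]) nets_ok (by norm_num) opi_ok (on_ok 3) (fun _ => fun h => cl_eq_of_slpB nets_ok (by norm_num) slp_ok ▸ mem_cl h) (by decide +kernel)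

theorem o_conj : cl (gp on) oL ≤ (cl (gp nets) L).map (MulAut.conj opi.perm).toMonoidHom :=
  o_le.trans (cl_le.2 (by simp only [List.forall_mem_cons]; exact ⟨o_m1, o_m2, o_m3, by simp⟩))

theorem o_ch : Nat.beq (chainB on oC oL) 44352000 = true := by decide +kernel

theorem o_ex : Exact on oC oL := by
  have := nets_ok.finite L
  exact exact_of_beq ((card_le_of_conj o_conj).trans card.le) o_ch

noncomputable def tb : ℕ → ℕ → ℕ := tbx 128 (tbk 7 4 prs7 on 128)

theorem tb_ok : TbA on tb := tbA_tbx on_ok (tbk_eq tr7 (by norm_num) (by norm_num) (by norm_num) on_ok)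

noncomputable def par0 : ℕ := (nat_lit 0x422082030530830c82422012890c90cc44d2ca2d750e30b3113133cb31331330f3d60c10d228e38f3d14833942114813424d051044b04305758e2095d228f2133ce2d55553d4256088080)

noncomputable def par1 : ℕ := (nat_lit 0xb50c3d239134c54c3533102d640c44e4933922d32d439444f55130b4cd3103cc4d344b5572d65d034b4d44905104d12cf3954553925cd594440)

noncomputable def par2 : ℕ := (nat_lit 0x44f44f41039544f3d24504113d255040e51044f5125115115973d65545964d048e5544d44ce5153d048e597480)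

noncomputable def par3 : ℕ := (nat_lit 0x4934955165934925125d25925155575144d24d44d2495480)

noncomputable def par4 : ℕ := (nat_lit 0x165c0)

noncomputable def oP : List (ℕ → ℕ) := [(fun p => look2 par0 6 256 (Nat.sub p 0)),
 (fun p => look2 par1 6 256 (Nat.sub p 1)),
 (fun p => look2 par2 6 256 (Nat.sub p 2)),
 (fun p => look2 par3 6 256 (Nat.sub p 3)),
 (fun p => look2 par4 6 256 (Nat.sub p 4))]

noncomputable def cxM : ℕ := (nat_lit 0x8000000040000001d8c0)

theorem cx_b : centB on tb oC oL 1 0 0 100 [0,1,2,4,5] [(3,20)] [1] [1,1,1,1,1,1,1,1,1,1] cxM = true := by decide +kernel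

noncomputable def cxF (q : ℕ) : Bool := sift tb (fun e => witer tb [1] e q) [(3,20)] oC oP oL [0,1,2,4,5] []

theorem cxA_0 : AllM cxM 256 cxF :=
  AllM.step (lo := 0) (m := 1) (AllM.zero _ _) (by decide +kernel)

theorem cx_c : ∀ c ∈ cl (gp on) oL, Commute c (gp on 1) → c ∈ cl (gp on) [1] := fun _ hc hz =>
  Exact.cent on_ok tb_ok o_ex cx_b cxA_0 (by norm_num) (by norm_num) hc hz

noncomputable def cyM : ℕ := (nat_lit 0x2080142a0)

theorem cy_b : centB on tb oC oL 4 0 0 100 [0,1,2,3,4] [] [4,24] [4,24,4,24,4,24,4,24] cyM = true := by decide +kernel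

noncomputable def cyF (q : ℕ) : Bool := sift tb (fun e => witer tb [4] e q) [] oC oP oL [0,1,2,3,4] []

theorem cyA_0 : AllM cyM 256 cyF :=
  AllM.step (lo := 0) (m := 1) (AllM.zero _ _) (by decide +kernel)

theorem cy_c : ∀ c ∈ cl (gp on) oL, Commute c (gp on 4) → c ∈ cl (gp on) [4,24] := fun _ hc hz =>
  Exact.cent on_ok tb_ok o_ex cy_b cyA_0 (by norm_num) (by norm_num) hc hz

noncomputable def parO : ℕ := (nat_lit 0x600018000000000000000000000000000000600000600000000000000000600000000000018600618018618000018000018018000018018000000000618000600000000000000004104100)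

noncomputable def oO : ℕ := (nat_lit 0x9000008800806dc45140c801f)

noncomputable def oR : List (List ℕ × ℕ) := [([1,3,3],2),
 ([1,1,2,3],6),
 ([1,2,3],7)]

theorem o_b : outB on tb (bases oC) oL 11 3 1 3 0 oR [4,24] oO = true := by decide +kernel

noncomputable def oF (q : ℕ) : Bool := walk tb (fun p => look2 parO 6 256 (Nat.sub p 0)) (msk [4,24]) 0 (fun ws => allL [1,2] (candB tb oR [(1,0),
 (2,38)] 68 q ws)) 1000 q []

theorem oA_0 : AllM oO 256 oF :=
  AllM.step (lo := 0) (m := 1) (AllM.zero _ _) (by decide +kernel)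

theorem o_phi {Γ : Type*} [Group Γ] (e : Γ ≃* cl (gp nets) L) : ∃ φ : Γ →* Equiv.Perm ℕ, Function.Injective φ ∧ φ.range = cl (gp on) oL := by
  have := nets_ok.finite L
  exact relabel e _ o_conj (card.trans_le (lb_of_chainB on_ok o_ch))

theorem out_le {Γ : Type*} [Group Γ] (e : Γ ≃* cl (gp nets) L) : Finite (Out Γ) ∧ Nat.card (Out Γ) ≤ 2 := by
  obtain ⟨φ, h1, h2⟩ := o_phi e
  exact card_out_le on_ok tb_ok o_ex o_b cy_b cy_c (by norm_num) h1 h2 o_le (m := 4032000) (J := 5) (by norm_num)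
    (((Nat.card_congr e.toEquiv).trans card).trans (by norm_num)) (by norm_num) (by norm_num) cx_c (by decide +kernel) (by norm_num) oA_0

noncomputable def oG (q : ℕ) : Bool := walk tb (fun p => look2 parO 6 256 (Nat.sub p 0)) (msk [4,24]) 0 (fun ws =>
  cnd (Nat.beq (wap tb [1] (wap tb (5 :: rva ws [6]) 36)) (wap tb (5 :: rva ws [6]) (wap tb [1,1] 36)))
    (cnd (Nat.beq (wap tb [3] (wap tb (5 :: rva ws [6]) 36)) (wap tb (5 :: rva ws [6]) (wap tb [3,5,24,24,4,4,4,6] 36))) false true) true) 1000 q []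

theorem oB_0 : AllM oO 256 oG :=
  AllM.step (lo := 0) (m := 1) (AllM.zero _ _) (by decide +kernel)

theorem o_rho : ∀ r ∈ [(1, [1,1]), (2, [2]), (3, [3,5,24,24,4,4,4,6])], gp on 7 * gp on r.1 * (gp on 7)⁻¹ = ev (gp on) r.2 := by
  intro r hr
  have := eq_of_eqB (k := 7) on_ok (by norm_num) (allL_iff.1 (show allL [(1, [1,1]), (2, [2]), (3, [3,5,24,24,4,4,4,6])]
    (fun r => eqB 128 7 0 7 on [7, r.1] 0 (apd r.2 [7])) = true by decide +kernel) r hr)
  rw [mul_inv_eq_iff_eq_mul]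
  simpa [apd_eq, ev] using this

theorem out_eq {Γ : Type*} [Group Γ] (e : Γ ≃* cl (gp nets) L) : Nat.card (Out Γ) = 2 := by
  obtain ⟨φ, h1, h2⟩ := o_phi e
  have a1 := o_rho _ List.mem_cons_self
  have a2 := o_rho _ (List.mem_cons_of_mem _ List.mem_cons_self)
  have a3 := o_rho _ (List.mem_cons_of_mem _ (List.mem_cons_of_mem _ List.mem_cons_self))
  obtain ⟨σ, hσ⟩ := aut_of_norm on_ok h1 h2 o_le (ρ := gp on 7) (by
    simp only [List.forall_mem_cons]
    rw [a1, a2, a3]
    refine ⟨?_, ?_, ?_, by simp⟩ <;> exact ev_mem fun x hx => mem_cl (sub_of_subB (by decide +kernel) x hx))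
  exact card_out_eq_two (out_le e) ⟨σ, not_inner on_ok tb_ok o_ex o_b cy_b cy_c (by norm_num) h2 (by norm_num) oB_0 σ
    (fun g h => by rw [hσ, h, a1]) (fun g h => by rw [hσ, h, a2, ev_single]) (fun g h => by rw [hσ, h, a3])⟩

end Cfsg.Lib.Comp.HS
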